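import Cfsg.Agent.H62.GW.MixedPoint
import Cfsg.Agent.H91.GW.OuterTorus
import Cfsg.Agent.H80.GW.PureBasics
import Mathlib.GroupTheory.FixedPointFree

/-!
# GW programme, M3, piece FIX: the group facts

The quotient of `N(L)` by `C(L)`, an element of the torus centralised by a reflection normalising
`L`, and inverted elements modulo `F(O)`.
-/

set_option autoImplicit false
set_option linter.unusedSectionVars false
set_option linter.style.haveILetI false

namespace Cfsg.Agent.H15.GW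

open Subgroup Cfsg.Agent
open Cfsg.Agent.GW (Cfg coreAt pairCore CentMax Fuses)
open Cfsg.Agent.Components (pCoreIn fitIn)
open Cfsg.Agent.H56 (PSLn)
open Cfsg.Agent.H63.GW (SylowDType)
open Cfsg.Agent.H62.GW

universe u

variable {G : Type u} [Group G] [Finite G] {S : Sylow 2 G} {l : ℕ} {c s : G} {L : Subgroup G}

/-- The part of `C(L)` inside `N(L)`. -/
noncomputable abbrev centIn (L : Subgroup G) : Subgroup ↥(normalizer (L : Set G)) :=
  (centralizer (L : Set G)).subgroupOf (normalizer (L : Set G))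

/-- `C(L)` is normal in `N(L)`. -/
theorem centIn_normal (L : Subgroup G) : (centIn L).Normal := by
  refine ⟨fun z hz n => mem_subgroupOf.2 (mem_centralizer_iff.2 fun w hw => ?_)⟩
  have h := mem_centralizer_iff.1 (mem_subgroupOf.1 hz) _ (Coprime.conj_mem' n.2 hw)
  show w * ((n : G) * (z : G) * (n : G)⁻¹) = (n : G) * (z : G) * (n : G)⁻¹ * w
  calc w * ((n : G) * (z : G) * (n : G)⁻¹)
      = (n : G) * ((n : G)⁻¹ * w * (n : G) * (z : G)) * (n : G)⁻¹ := by group
    _ = (n : G) * ((z : G) * ((n : G)⁻¹ * w * (n : G))) * (n : G)⁻¹ := by rw [h]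
    _ = (n : G) * (z : G) * (n : G)⁻¹ * w := by group

/-- Nothing nontrivial of `L` centralises `L`. -/
theorem eq_one_of_mem_centralizer (hM : MixedData S l c s L) {x : G} (hx : x ∈ L)
    (hxc : x ∈ centralizer (L : Set G)) : x = 1 := by
  obtain ⟨g, hgL, hg⟩ := hM.fuse
  have htt : c ^ l * c ^ l = 1 := H39.mul_self_of_orderOf_eq_two hM.cfg.gen.z_order
  have hss := H39.mul_self_of_orderOf_eq_two hM.cfg.gen.os
  have hts : Commute (c ^ l) s := (hM.cfg.gen.z_central hM.cfg.gen.mem_s).symm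
  have hne : c ^ l ≠ s := fun e => hM.cfg.gen.out (e ▸ Subgroup.pow_mem _ (mem_zpowers c) l)
  have hcx : ∀ w ∈ L, Commute x w := fun w hw => ((mem_centralizer_iff.1 hxc w hw).symm)
  have hgx : g * x * g⁻¹ = x := by rw [← (hcx g hgL).eq, mul_inv_cancel_right]
  by_cases hxx : x * x = 1
  · by_contra hx1
    refine hx1 (H4.GW.no_three (H36.GW.sylowDType_of_dGen hM.cfg.gen) htt hss hxx hts
      (hcx _ hM.t_mem).symm (hcx _ hM.s_mem).symm
      (H39.ne_one_of_orderOf_eq_two hM.cfg.gen.z_order)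
      (H39.ne_one_of_orderOf_eq_two hM.cfg.gen.os) hne ?_ ?_ ?_)
    · intro e
      rw [e, hg.1] at hgx
      exact hne hgx.symm
    · intro e
      rw [e, hg.2] at hgx
      exact H39.ne_one_of_orderOf_eq_two hM.cfg.gen.z_order (mul_eq_right.1 hgx)
    · intro e
      rw [e, show g * (c ^ l * s) * g⁻¹ = (g * c ^ l * g⁻¹) * (g * s * g⁻¹) by group, hg.1, hg.2,
        hts.eq, ← mul_assoc, hss, one_mul] at hgx
      exact H39.ne_one_of_orderOf_eq_two hM.cfg.gen.os (mul_eq_right.1 hgx.symm)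
  · obtain ⟨F, iF, iFt, hodd, h3, ⟨e⟩⟩ := hM.psl
    haveI : (⊤ : Subgroup ↥L).Normal := inferInstance
    have h := commute_of_common (K := (⊤ : Subgroup ↥L)) (Subgroup.topEquiv.trans e)
      (x := ⟨x, hx⟩) (u := ⟨g, hgL⟩) (v := ⟨c ^ l, hM.t_mem⟩) (mem_top _)
      (fun hh => hxx (congrArg Subtype.val hh)) (mem_top _) (mem_top _)
      (Subtype.ext (hcx g hgL).eq.symm) (Subtype.ext (hcx _ hM.t_mem).eq.symm)
    have h' : g * c ^ l = c ^ l * g := congrArg Subtype.val h.eq
    have h1 := hg.1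
    rw [h', mul_inv_cancel_right] at h1
    exact absurd h1 hne

/-- `C(L)` has odd order. -/
theorem odd_card_centralizer (hM : MixedData S l c s L) :
    Odd (Nat.card ↥(centralizer (L : Set G))) := by
  haveI : Fact (Nat.Prime 2) := ⟨Nat.prime_two⟩
  by_contra hodd
  obtain ⟨x, hx⟩ := exists_prime_orderOf_dvd_card' (G := ↥(centralizer (L : Set G))) 2
    (Nat.not_odd_iff_even.1 hodd).two_dvd
  rw [← Subgroup.orderOf_coe] at hx
  obtain ⟨g, hgL, hg⟩ := hM.fuse
  have hss := H39.mul_self_of_orderOf_eq_two hM.cfg.gen.os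
  have hts : Commute (c ^ l) s := (hM.cfg.gen.z_central hM.cfg.gen.mem_s).symm
  have hne : c ^ l ≠ s := fun e => hM.cfg.gen.out (e ▸ Subgroup.pow_mem _ (mem_zpowers c) l)
  have hx1 := H39.ne_one_of_orderOf_eq_two hx
  have hc : ∀ w ∈ L, Commute w (x : G) := fun w hw => mem_centralizer_iff.1 x.2 w hw
  have key : ∀ w ∈ L, (x : G) ≠ w := fun w hw e =>
    hx1 (eq_one_of_mem_centralizer hM (e ▸ hw) x.2)
  exact hx1 (H4.GW.no_three (H36.GW.sylowDType_of_dGen hM.cfg.gen)
    (H39.mul_self_of_orderOf_eq_two hM.cfg.gen.z_order) hss (H39.mul_self_of_orderOf_eq_two hx) hts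
    (hc _ hM.t_mem) (hc _ hM.s_mem) (H39.ne_one_of_orderOf_eq_two hM.cfg.gen.z_order)
    (H39.ne_one_of_orderOf_eq_two hM.cfg.gen.os) hne (key _ hM.t_mem) (key _ hM.s_mem)
    (key _ (mul_mem hM.t_mem hM.s_mem)))

/-- `N(L) / C(L)` is a group over `PSL(2,q)` in which `L` is embedded. -/
theorem exists_over (hM : MixedData S l c s L) :
    ∃ (Y : Type u) (_ : Group Y) (_ : Finite Y) (π : ↥(normalizer (L : Set G)) →* Y)
      (K : Subgroup Y) (_ : K.Normal) (F : Type) (_ : Field F) (_ : Fintype F)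
      (_ : ↥K ≃* PSLn 2 F), Odd (Fintype.card F) ∧ 3 < Fintype.card F ∧ SylowDType Y ∧
      centralizer (K : Set Y) = ⊥ ∧
      (∀ n : ↥(normalizer (L : Set G)), π n = 1 ↔ (n : G) ∈ centralizer (L : Set G)) ∧
      (∀ n : ↥(normalizer (L : Set G)),
        π n ∈ K ↔ ∃ k ∈ L, k⁻¹ * (n : G) ∈ centralizer (L : Set G)) ∧
      (∀ y ∈ K, ∃ n : ↥(normalizer (L : Set G)), (n : G) ∈ L ∧ π n = y) := by
  obtain ⟨F, iF, iFt, hodd, h3, ⟨e⟩⟩ := hM.psl
  haveI := centIn_normal L
  set π := QuotientGroup.mk' (centIn L) with hπ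
  have hπs : Function.Surjective π := QuotientGroup.mk'_surjective _
  have hker : ∀ n, π n = 1 ↔ (n : G) ∈ centralizer (L : Set G) := fun n => by
    rw [hπ, QuotientGroup.mk'_apply, QuotientGroup.eq_one_iff]
    exact mem_subgroupOf
  set LN := L.subgroupOf (normalizer (L : Set G)) with hLN
  haveI : LN.Normal := Subgroup.normal_in_normalizer
  haveI hKn : (LN.map π).Normal := Subgroup.Normal.map inferInstance π hπs
  set ι : ↥L →* (↥(normalizer (L : Set G)) ⧸ centIn L) :=
    π.comp (Subgroup.inclusion (le_normalizer (H := L))) with hι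
  have hιinj : Function.Injective ι := by
    refine (injective_iff_map_eq_one ι).2 fun x hx => Subtype.ext ?_
    exact eq_one_of_mem_centralizer hM x.2 ((hker _).1 hx)
  have hrange : ι.range = LN.map π := by
    ext y
    constructor
    · rintro ⟨x, rfl⟩
      exact mem_map_of_mem π (show Subgroup.inclusion le_normalizer x ∈ LN from x.2)
    · rintro ⟨n, hn, rfl⟩
      exact ⟨⟨(n : G), hn⟩, rfl⟩
  refine ⟨_, inferInstance, inferInstance, π, LN.map π, hKn, F, iF, iFt,
    ((MulEquiv.subgroupCongr hrange.symm).trans (MonoidHom.ofInjective hιinj).symm).trans e,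
    hodd, h3, ?_, ?_, hker, fun n => ?_, ?_⟩
  · refine ((H36.GW.sylowDType_of_dGen hM.cfg.gen).subgroup _).quotient _ ?_
    refine (odd_card_centralizer hM).of_dvd_nat ?_
    rw [← Nat.card_congr (Subgroup.subgroupOfEquivOfLe (Subgroup.centralizer_le_normalizer
      (L : Set G))).toEquiv]
  · refine eq_bot_iff.2 fun y hy => ?_
    obtain ⟨n, rfl⟩ := hπs y
    rw [mem_bot, hker, mem_centralizer_iff]
    intro w hw
    set w' : ↥(normalizer (L : Set G)) := ⟨w, le_normalizer hw⟩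
    have h1 := mem_centralizer_iff.1 hy (π w') (mem_map_of_mem π (show w' ∈ LN from hw))
    have h2 : π (w' * n * w'⁻¹ * n⁻¹) = 1 := by
      rw [map_mul, map_mul, map_mul, map_inv, map_inv, h1]
      group
    have h3' := (hker _).1 h2
    have h4 : w * (n : G) * w⁻¹ * (n : G)⁻¹ ∈ L := by
      rw [show w * (n : G) * w⁻¹ * (n : G)⁻¹ = w * ((n : G) * w⁻¹ * (n : G)⁻¹) by group]
      exact mul_mem hw (Coprime.conj_mem n.2 (inv_mem hw))
    have h5 := eq_one_of_mem_centralizer hM h4 h3'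
    exact mul_inv_eq_iff_eq_mul.1 (mul_inv_eq_one.1 h5)
  · constructor
    · rintro ⟨k, hk, hkn⟩
      refine ⟨k, hk, ?_⟩
      exact (hker (k⁻¹ * n)).1 (by rw [map_mul, map_inv, hkn, inv_mul_cancel])
    · rintro ⟨k, hk, hkn⟩
      refine ⟨⟨k, le_normalizer hk⟩, hk, ?_⟩
      have := (hker (⟨k, le_normalizer hk⟩⁻¹ * n)).2 hkn
      rwa [map_mul, map_inv, inv_mul_eq_one] at this
  · rintro _ ⟨n, hn, rfl⟩
    exact ⟨n, hn, rfl⟩

/-- An involution of `C(t) ∩ N(L)` other than `t` fixes no torus element inverted by `s` and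
induces something outside `{1, t}` on `L`. -/
theorem false_of_fixes_torus (hM : MixedData S l c s L) {b d : G}
    (hbN : b ∈ normalizer (L : Set G)) (hbb : b * b = 1) (hb1 : b ≠ 1) (hbt : Commute b (c ^ l))
    (hbne : b ≠ c ^ l) (hd : d ∈ torusPart (c ^ l) L) (hd1 : d ≠ 1) (hbd : Commute b d) :
    False := by
  obtain ⟨Y, _, _, π, K, _, F, _, _, e, hodd, h3, hSD, hC, hker, hK, hsurj⟩ := exists_over hM
  have hoddC := odd_card_centralizer hM
  have hdo : Odd (orderOf d) := odd_orderOf_of_mem (odd_coreAt _) hd.1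
  set t' : ↥(normalizer (L : Set G)) := ⟨c ^ l, le_normalizer hM.t_mem⟩
  set b' : ↥(normalizer (L : Set G)) := ⟨b, hbN⟩
  set d' : ↥(normalizer (L : Set G)) := ⟨d, le_normalizer hd.2⟩
  have htK : π t' ∈ K := (hK _).2 ⟨c ^ l, hM.t_mem, by simp [t']⟩
  have hdK : π d' ∈ K := (hK _).2 ⟨d, hd.2, by simp [d']⟩
  have hne : ∀ {n : ↥(normalizer (L : Set G))}, (n : G) ∈ L → (n : G) ≠ 1 → π n ≠ 1 :=
    fun {n} hn hn1 h => hn1 (eq_one_of_mem_centralizer hM hn ((hker n).1 h))
  have ht1 : π t' ≠ 1 := hne hM.t_mem (H39.ne_one_of_orderOf_eq_two hM.cfg.gen.z_order)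
  have htt : π t' * π t' = 1 := by
    rw [← map_mul]
    exact (hker _).2 (by
      show c ^ l * c ^ l ∈ _
      rw [H39.mul_self_of_orderOf_eq_two hM.cfg.gen.z_order]; exact one_mem _)
  have hb1' : π b' ≠ 1 := fun h => hb1 (eq_one_of_odd
    (odd_orderOf_of_mem hoddC ((hker _).1 h)) hbb)
  have hbb' : π b' * π b' = 1 := by
    rw [← map_mul]
    exact (hker _).2 (by show b * b ∈ _; rw [hbb]; exact one_mem _)
  have hdd : π d' * π d' ≠ 1 := by
    rw [← map_mul]
    exact hne (mul_mem hd.2 hd.2) fun h => hd1 (eq_one_of_odd hdo h)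
  have hdt : Commute (π d') (π t') :=
    Commute.map (Subtype.ext (commute_of_mem_coreAt hd.1).eq.symm) π
  have hbd' : Commute (π b') (π d') := Commute.map (Subtype.ext hbd.eq) π
  have hbK : π b' ∈ K :=
    mem_of_fixes e hSD hodd hC hdK hdd htK ht1 htt hdt.symm hb1' hbb' hbd'
  obtain ⟨M, -, -, -, -, hMo, hMinv⟩ := exists_torus e hodd htK ht1 htt
  have hdo' : Odd (orderOf (π d')) := hdo.of_dvd_nat
    ((orderOf_map_dvd π d').trans (by rw [Subgroup.orderOf_mk]))
  have hdM := hMo _ hdK hdo' hdt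
  have hbt' : Commute (π b') (π t') := Commute.map (Subtype.ext hbt.eq) π
  have hbne' : π b' ≠ π t' := fun h => by
    have h1 : b * c ^ l ∈ centralizer (L : Set G) := (hker (b' * t')).1 (by rw [map_mul, h, htt])
    have h2 : b * c ^ l = 1 := eq_one_of_odd (odd_orderOf_of_mem hoddC h1) (by
      rw [← mul_assoc, mul_assoc b, hbt.symm.eq, ← mul_assoc, hbb, one_mul,
        H39.mul_self_of_orderOf_eq_two hM.cfg.gen.z_order])
    exact hbne ((mul_eq_one_iff_eq_inv.1 h2).trans
      (inv_eq_of_mul_eq_one_left (H39.mul_self_of_orderOf_eq_two hM.cfg.gen.z_order)))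
  exact hdd (by
    have h1 := hMinv _ hbK hbb' hb1' hbne' hbt' _ hdM
    rw [hbd'.eq, mul_inv_cancel_right] at h1
    nth_rw 1 [h1]
    exact inv_mul_cancel _)

end Cfsg.Agent.H15.GW
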